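import Cfsg.Agent.TAB.Use.Main

/-!
# Transport of types and tables along isomorphisms (helper16, TAB engine)
-/

set_option autoImplicit false

namespace Cfsg.Agent.TAB.Eng

open Cfsg Cfsg.Agent.TAB.Use

universe u v

variable {G : Type u} {H : Type v} [Group G] [Group H] {D : Dat}

/-- the types of an isomorphic group -/
def TD.pull (T : TD H D) (e : G ≃* H) : TD G D where
  ty g := T.ty (e g)
  lt g := T.lt _
  conj g h := by rw [map_mul, map_mul, map_inv, T.conj]
  ord g := (e.orderOf_eq g).symm.trans (T.ord _)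
  pow g k := by rw [map_pow, T.pow]

theorem mass_pull {T : TD H D} (h : T.Mass) (e : G ≃* H) : (T.pull e).Mass :=
  ⟨(Nat.card_congr e.toEquiv).trans h.1, fun i hi =>
    (Nat.card_congr (e.toEquiv.subtypeEquiv fun _ => Iff.rfl)).trans (h.2 i hi)⟩

theorem tab_pull {T : TD H D} {R : Rows} (h : Tab T R) (e : G ≃* H) : Tab (T.pull e) R := by
  obtain ⟨χ, hE, hR⟩ := h
  refine ⟨fun j g => χ j (e g), ⟨fun j hj => VAN.isIrr_comp_equiv e (hE.irr j hj), fun i hi j hj h => ?_,
    fun ψ hψ => ?_, fun j hj => ?_⟩, fun r hr g => hR r hr (e g)⟩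
  · refine hE.inj i hi j hj (funext fun x => ?_)
    have h1 := congrFun h (e.symm x)
    rwa [e.apply_symm_apply] at h1
  · obtain ⟨j, hj, h⟩ := hE.all _ (VAN.isIrr_comp_equiv e.symm hψ)
    refine ⟨j, hj, funext fun g => ?_⟩
    have h1 := congrFun h (e g)
    rwa [e.symm_apply_apply] at h1
  · rw [map_one, hE.deg j hj]

theorem sigConj_pull {T : TD H D} {t : ℕ} (h : SigConj T t) (e : G ≃* H) : SigConj (T.pull e) t := by
  obtain ⟨g, a, b, k, h1, h2, h3⟩ := h
  refine ⟨e.symm g, a, b, k, (congrArg T.ty (e.apply_symm_apply g)).trans h1, h2, ?_⟩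
  rw [← map_pow]
  exact e.symm.toMonoidHom.map_isConj h3

end Cfsg.Agent.TAB.Eng
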