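import Cfsg.Agent.TAB.Eng.Gram
import Cfsg.Agent.TAB.Use.Defs
import Cfsg.Agent.H447.CTabDouble

/-!
# From virtual rows to the table of the irreducible characters (helper16, TAB engine)

`tab_of_cols` : no list of classes is needed.  The rows have arbitrary norms `< 16`, are orthogonal except inside
stars; shared constituents are excluded by Bessel's inequality and the divisibility of the degrees.
-/

set_option autoImplicit false

namespace Cfsg.Agent.TAB.Eng

open Cfsg Finset Cfsg.Agent.Characters.Core Cfsg.Agent.H447.CTab Cfsg.Agent.TAB.Use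
open scoped ComplexConjugate

universe u

/-- the scalar product of two lists -/
noncomputable def dotL (b : List ℤ) : List ℤ → ℤ :=
  List.rec (fun _ => 0) (fun x _ ih c => List.rec 0 (fun a c' _ =>
    frcZ (ih c') fun h => Int.add (Int.mul x a) h) c) b

theorem dotL_eq (b c : List ℤ) {k : ℕ} (h : b.length ≤ k) : dotL b c = ∑ j ∈ range k, nth b j * nth c j := by
  induction b generalizing c k with
  | nil => exact (Finset.sum_eq_zero fun j _ => by rw [nth_nil, zero_mul]).symm
  | cons x b ih =>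
    cases c with
    | nil => exact (Finset.sum_eq_zero fun j _ => by rw [nth_nil, mul_zero]).symm
    | cons a c =>
      cases k with
      | zero => cases h
      | succ k =>
        have h1 : dotL (x :: b) (a :: c) = x * a + dotL b c := frcZ_eq _ fun h => Int.add (Int.mul x a) h
        rw [h1, ih c (Nat.le_of_succ_le_succ h), Finset.sum_range_succ', add_comm]
        rfl

/-- the regular character is the combination of the rows with the coefficients `b` -/
noncomputable def okRho (N : ℕ) (b : List ℤ) (C : List (List ℤ)) : Bool :=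
  List.rec false (fun c C' _ => decide (dotL b c = Int.ofNat N) && allL (fun c' => decide (dotL b c' = 0)) C') C

theorem okRho_spec {N : ℕ} {b : List ℤ} {C : List (List ℤ)} (h : okRho N b C = true) {k : ℕ} (hk : b.length ≤ k)
    (t : ℕ) : ∑ j ∈ range k, nth b j * rw C j t = if t = 0 then (N : ℤ) else 0 := by
  cases C with
  | nil => cases h
  | cons c C =>
    have h1 : (decide (dotL b c = Int.ofNat N) && allL (fun c' => decide (dotL b c' = 0)) C) = true := h
    rw [Bool.and_eq_true] at h1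
    refine (dotL_eq b _ hk).symm.trans ?_
    cases t with
    | zero => exact of_decide_eq_true h1.1
    | succ t =>
      rw [if_neg (Nat.succ_ne_zero t)]
      show dotL b (ntd C [] t) = 0
      rcases ntd_mem C [] t with h2 | h2
      · rw [h2, dotL_eq b [] le_rfl]
        exact Finset.sum_eq_zero fun j _ => by rw [nth_nil, mul_zero]
      · exact of_decide_eq_true (allL_spec h1.2 _ h2)

/-- the number of entries with a property -/
noncomputable def cntP {β : Type} (p : β → Bool) (l : List β) : ℕ :=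
  List.rec 0 (fun a _ ih => cond (p a) (Nat.succ ih) ih) l

theorem cntP_eq {β : Type} (p : β → Bool) (l : List β) (d : β) :
    ((range l.length).filter fun j => p (ntd l d j) = true).card = cntP p l := by
  rw [Finset.card_filter]
  induction l with
  | nil => rfl
  | cons a l ih =>
    rw [List.length_cons, Finset.sum_range_succ']
    show ∑ j ∈ range l.length, (if p (ntd l d j) = true then 1 else 0) + (if p a = true then 1 else 0) =
      cond (p a) (Nat.succ (cntP p l)) (cntP p l)
    rw [ih]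
    cases p a <;> rfl

/-- weights and degrees for the search -/
noncomputable def wts (L : ℕ) (ms : List (ℕ × ℕ)) : List ℤ → List (ℕ × ℤ) :=
  List.rec (fun _ => []) (fun p _ ih b => (cond (Nat.beq p.2 0) (L / p.1) (L + 1), nth b 0) :: ih b.tail) ms

theorem length_wts (L : ℕ) (ms : List (ℕ × ℕ)) (b : List ℤ) : (wts L ms b).length = ms.length := by
  induction ms generalizing b with
  | nil => rfl
  | cons p ms ih => exact congrArg Nat.succ (ih _)

theorem ntd_wts (L : ℕ) (ms : List (ℕ × ℕ)) (b : List ℤ) {j : ℕ} (h : j < ms.length) :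
    ntd (wts L ms b) (0, 0) j = (cond (Nat.beq (sF ms j) 0) (L / mF ms j) (L + 1), nth b j) := by
  induction ms generalizing b j with
  | nil => cases h
  | cons p ms ih => cases j with
    | zero => rfl
    | succ j => exact (ih b.tail (Nat.lt_of_succ_lt_succ h)).trans (by rw [nth_tail]; rfl)

/-- evaluate a list of pairs before passing it on -/
noncomputable def frcW {β : Type} (l : List (ℕ × ℤ)) : (List (ℕ × ℤ) → β) → β :=
  List.rec (fun k => k []) (fun a _ ih k => frc a.1 fun x => frcZ a.2 fun y => ih fun l' => k ((x, y) :: l')) l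

theorem frcW_eq {β : Type} (l : List (ℕ × ℤ)) (k : List (ℕ × ℤ) → β) : frcW l k = k l := by
  induction l generalizing k with
  | nil => rfl
  | cons a l ih =>
    exact (frc_eq a.1 fun x => frcZ a.2 fun y => frcW l fun l' => k ((x, y) :: l')).trans
      ((frcZ_eq a.2 fun y => frcW l fun l' => k ((a.1, y) :: l')).trans (ih fun l' => k (a :: l')))

/-- the characters which occur in the row `j` of the star `s` -/
noncomputable def relC (k j s : ℕ) (be : List (ℕ × ℤ)) : ℕ → List (ℕ × ℤ) :=
  List.rec (fun _ => []) (fun p _ ih i =>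
    cond (cond (Nat.blt p.1 k) (Nat.beq j p.1) (Nat.beq s (p.1 - k + 1))) ((i, p.2) :: ih (Nat.succ i))
      (ih (Nat.succ i))) be

theorem relC_sum (k j : ℕ) (st : ℕ → ℕ) (be : List (ℕ × ℤ)) (i0 : ℕ) (F : ℕ → ℂ) :
    ((relC k j (st j) be i0).map fun p => (p.2 : ℂ) * F p.1).sum = ∑ i ∈ range be.length,
      (sig k st (fun _ => (ntd be (0, 0) i).2) (ntd be (0, 0) i).1 j : ℂ) * F (i0 + i) := by
  induction be generalizing i0 with
  | nil => rfl
  | cons p be ih =>
    have h1 : relC k j (st j) (p :: be) i0 = cond (cond (Nat.blt p.1 k) (Nat.beq j p.1) (Nat.beq (st j) (p.1 - k + 1)))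
      ((i0, p.2) :: relC k j (st j) be (i0 + 1)) (relC k j (st j) be (i0 + 1)) := rfl
    have h2 : ∑ i ∈ range be.length, (sig k st (fun _ => (ntd (p :: be) (0, 0) (i + 1)).2)
        (ntd (p :: be) (0, 0) (i + 1)).1 j : ℂ) * F (i0 + (i + 1)) = _ :=
      (Finset.sum_congr rfl fun i _ => by rw [add_comm i 1, ← add_assoc, add_comm 1 i]; rfl).trans (ih (i0 + 1)).symm
    rw [h1, List.length_cons, Finset.sum_range_succ', h2]
    show _ = _ + (sig k st (fun _ => p.2) p.1 j : ℂ) * F i0
    simp only [sig, Bool.cond_eq_ite, Nat.blt_eq, Nat.beq_eq, Bool.ite_eq_true_distrib]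
    split_ifs <;> simp [add_comm]

/-- the relations -/
noncomputable def relL (C : List (List ℤ)) (cs : List (List (ℕ × ℤ))) : ℕ → List (List (ℕ × ℤ) × List ℤ) :=
  List.rec (fun _ => []) (fun c _ ih j => (c, rwL C j) :: ih (Nat.succ j)) cs

theorem mem_relL {C : List (List ℤ)} {cs : List (List (ℕ × ℤ))} {j0 : ℕ} {r : List (ℕ × ℤ) × List ℤ}
    (h : r ∈ relL C cs j0) : ∃ j < cs.length, r = (ntd cs [] j, rwL C (j0 + j)) := by
  induction cs generalizing j0 with
  | nil => cases h
  | cons c cs ih =>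
    rcases List.mem_cons.1 h with rfl | h1
    · exact ⟨0, Nat.succ_pos _, rfl⟩
    · obtain ⟨j, hj, rfl⟩ := ih h1
      exact ⟨j + 1, Nat.succ_lt_succ hj, by rw [Nat.succ_add_eq_add_succ]; rfl⟩

/-- the table -/
noncomputable def mkR (C : List (List ℤ)) (dg : List ℕ) (cs : List (List (ℕ × ℤ))) : Rows := ⟨dg, relL C cs 0⟩

/-- **the final check**: `ms` norms and stars, `b` the coefficients of the regular character, `ns` the number of
stars, `mx` a bound of the norms, `L` a common multiple of the norms, `be` the block and the sign of each character,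
`dg` the degrees, `cs` the constituents of the rows -/
noncomputable def okFin (D : Dat) (C : List (List ℤ)) (ms : List (ℕ × ℕ)) (b : List ℤ) (ns mx L : ℕ)
    (be : List (ℕ × ℤ)) (dg : List ℕ) (cs : List (List (ℕ × ℤ))) : Bool :=
  frc ms.length fun k =>
    (Nat.blt 0 D.n && Nat.beq (D.ord 0) 1 && Nat.blt 0 (D.cnt 0) && Nat.ble b.length k && okRho D.N b C) &&
    (Nat.blt 0 L && allL (fun p => Nat.ble p.2 ns && cond (Nat.beq p.2 0) (Nat.beq (L / p.1 * p.1) L) (Nat.beq p.1 2)) ms &&
      allL (fun s => Nat.ble (max 4 mx) (cntP (fun p => Nat.beq p.2 (s + 1)) ms)) (List.range ns) &&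
      frcW (wts L ms b) fun w => srch D.N L w L 0 0 []) &&
    (Nat.beq dg.length be.length && allL (fun i => frc (ntd be (0, 0) i).1 fun y => Nat.blt y (k + ns) &&
        frcZ (sdeg k (sF ms) (nth b) y) fun d => decide ((ntd be (0, 0) i).2 = d.sign) &&
          decide ((dg.getD i 0 : ℤ) = d * d.sign)) (List.range be.length) &&
      allL (fun y => Nat.beq (cntP (fun p => Nat.beq p.1 y) be) (mlt k (mF ms) (sF ms) y)) (List.range (k + ns))) &&
    (Nat.beq cs.length k && allL (fun j => decide (relC k j (sF ms j) be 0 = ntd cs [] j)) (List.range k))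

theorem ntd_mem' {β : Type} (l : List β) (d : β) {j : ℕ} (h : j < l.length) : ntd l d j ∈ l :=
  ntd_eq l d h ▸ List.getElem_mem h

variable {G : Type u} [Group G] {D : Dat} {T : TD G D}

theorem TD.ty_eq_zero [Finite G] (hm : T.Mass) (h0 : 0 < D.n) (h1 : D.ord 0 = 1) (h2 : 0 < D.cnt 0) (g : G) :
    T.ty g = 0 ↔ g = 1 := by
  have key : ∀ g, T.ty g = 0 → g = 1 := fun g hg => orderOf_eq_one_iff.1 (by rw [T.ord, hg, h1])
  refine ⟨key g, fun hg => ?_⟩
  rw [← hm.2 0 h0] at h2
  obtain ⟨⟨x, hx⟩⟩ := (Nat.card_pos_iff.1 h2).1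
  rwa [hg, ← key x hx]

/-- **The table of the irreducible characters.** -/
theorem tab_of_cols [Finite G] (hm : T.Mass) (hL : D.okLen) {C : List (List ℤ)} {ms : List (ℕ × ℕ)} {b : List ℤ}
    {ns mx L B : ℕ} {be : List (ℕ × ℤ)} {dg : List ℕ} {cs : List (List (ℕ × ℤ))} (hG : chkG D C ms mx B = true)
    (hF : okFin D C ms b ns mx L be dg cs = true) (hv : ∀ j < ms.length, Virt T (rw C j)) :
    Tab T (mkR C dg cs) := by
  classical
  have := Fintype.ofFinite G
  have := finite_irr (G := G)
  have := Fintype.ofFinite (IrrCharacter G)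
  obtain ⟨hmx, hG⟩ := gram_of_chkG hL hG
  rw [okFin, frc_eq] at hF
  simp only [Bool.and_eq_true, frcW_eq, Nat.blt_eq, Nat.beq_eq, Nat.ble_eq] at hF
  obtain ⟨⟨⟨⟨⟨⟨⟨a1, a2⟩, a3⟩, a4⟩, a5⟩, ⟨⟨b1, b2⟩, b3⟩, b4⟩, ⟨c1, c2⟩, c3⟩, d1, d2⟩ := hF
  generalize hk : ms.length = k at *
  let a : ℕ → IrrCharacter G → ℤ := fun j => if h : j < k then mu (hv j h) else 0
  have ha : ∀ j (h : j < k), a j = mu (hv j h) := fun j h => dif_pos h
  have hGa : ∀ i < k, ∀ j < k, a i ⬝ᵥ a j = gam (mF ms) (sF ms) i j := fun i hi j hj => by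
    have h1 := (inner_of_ipF hm (hG i hi j hj)).symm.trans (inner_sum_mu (hv i hi) (hv j hj))
    rw [ha i hi, ha j hj]
    exact_mod_cast h1.symm
  have hb2 : ∀ j < k, sF ms j ≤ ns ∧ (sF ms j = 0 → L / mF ms j * mF ms j = L) ∧ (sF ms j ≠ 0 → mF ms j = 2) :=
    fun j hj => by
      have h1 := allL_spec b2 _ (ntd_mem' ms (0, 0) (hk ▸ hj))
      simp only [Bool.and_eq_true, Nat.ble_eq, Bool.cond_eq_ite, Nat.beq_eq] at h1
      refine ⟨h1.1, fun h2 => ?_, fun h2 => ?_⟩
      · have h3 := h1.2
        rw [if_pos (show (ntd ms (0, 0) j).2 = 0 from h2)] at h3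
        exact Nat.eq_of_beq_eq_true h3
      · have h3 := h1.2
        rw [if_neg (show ¬ (ntd ms (0, 0) j).2 = 0 from h2)] at h3
        exact Nat.eq_of_beq_eq_true h3
  have hb3 : ∀ s < ns, max 4 mx ≤ ((range k).filter fun j => sF ms j = s + 1).card := fun s hs => by
    have h1 := Nat.le_of_ble_eq_true (allL_spec b3 s (List.mem_range.2 hs))
    rw [← cntP_eq _ ms (0, 0), hk] at h1
    simp only [Nat.beq_eq] at h1
    exact h1
  have hs : Shape k ns (mF ms) (sF ms) := ⟨fun j hj => (hb2 j hj).1, fun j hj => (hb2 j hj).2.2,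
    fun s hs => (le_max_left _ _).trans (hb3 s hs), fun s hs j _ => (hmx j).trans ((le_max_right _ _).trans (hb3 s hs))⟩
  have hdeg : ∀ χ : IrrCharacter G, ((∑ j ∈ range k, nth b j * a j χ : ℤ) : ℂ) = conj ((χ : G → ℂ) 1) := fun χ => by
    have h1 : ∀ j ∈ range k, ((nth b j * a j χ : ℤ) : ℂ) =
        classInner ((nth b j : ℂ) • fun g => (rw C j (T.ty g) : ℂ)) (χ : G → ℂ) := fun j hj => by
      rw [classInner_smul_left, ha j (Finset.mem_range.1 hj), Int.cast_mul]
      exact congrArg _ (inner_mu _ _).symm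
    rw [Int.cast_sum, Finset.sum_congr rfl h1, ← classInner_sum_left, classInner_def,
      Finset.sum_eq_single 1 (fun g _ hg => ?_) fun h => absurd (Finset.mem_univ _) h]
    · have h2 := congrArg (Int.cast : ℤ → ℂ) (okRho_spec a5 a4 (T.ty 1))
      rw [if_pos ((TD.ty_eq_zero hm a1 a2 a3 1).2 rfl)] at h2
      push_cast at h2
      simp only [Finset.sum_apply, Pi.smul_apply, smul_eq_mul]
      rw [h2, ← hm.1, inv_mul_cancel_left₀ card_ne_zero_complex]
    · have h2 := congrArg (Int.cast : ℤ → ℂ) (okRho_spec a5 a4 (T.ty g))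
      rw [if_neg fun h => hg ((TD.ty_eq_zero hm a1 a2 a3 g).1 h)] at h2
      push_cast at h2
      simp only [Finset.sum_apply, Pi.smul_apply, smul_eq_mul]
      rw [h2, zero_mul]
  have hdeg' : ∀ χ : IrrCharacter G, ∃ d : ℕ, 0 < d ∧ (χ : G → ℂ) 1 = d ∧ d ∣ D.N ∧
      ∑ j ∈ range k, nth b j * a j χ = d := fun χ => by
    obtain ⟨d, h1, h2, h3⟩ := degree_dvd χ
    refine ⟨d, h1, h2, hm.1 ▸ h3, ?_⟩
    have h4 := hdeg χ
    rw [h2, Complex.conj_natCast] at h4
    exact_mod_cast h4
  have hcl : ∀ χ : IrrCharacter G, ∃ y < k + ns, sdeg k (sF ms) (nth b) y ≠ 0 ∧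
      ∀ j < k, a j χ = sig k (sF ms) (fun y => (sdeg k (sF ms) (nth b) y).sign) y j := fun χ => by
    obtain ⟨d, h1, -, h3, h4⟩ := hdeg' χ
    refine classify hs a (nth b) hGa χ (by rw [h4]; exact_mod_cast h1) fun h0 => ?_
    have h5 : ∑ j ∈ range (wts L ms b).length, (ntd (wts L ms b) (0, 0) j).2 * a j χ = d := by
      rw [length_wts, hk, ← h4]
      exact Finset.sum_congr rfl fun j hj => by rw [ntd_wts _ _ _ (hk ▸ Finset.mem_range.1 hj)]
    have h6 := srch_spec (fun p hp => ?_) b4 (fun j => a j χ) (X := d) (by exact_mod_cast h1) (by exact_mod_cast h3) ?_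
      (by rw [h5, zero_add]) (List.forall_mem_nil _) fun j hj h7 h8 => ?_
    · rwa [length_wts, hk, zero_add] at h6
    · obtain ⟨j, hj, rfl⟩ := List.getElem_of_mem hp
      rw [← ntd_eq _ (0, 0) hj]
      rw [length_wts] at hj
      rw [ntd_wts _ _ _ hj]
      cases h7 : Nat.beq (sF ms j) 0 with
      | false => exact Nat.succ_pos _
      | true =>
        refine Nat.pos_of_ne_zero fun h8 => ?_
        have h9 := (hb2 j (hk ▸ hj)).2.1 (Nat.eq_of_beq_eq_true h7)
        rw [show L / mF ms j = 0 from h8, zero_mul] at h9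
        omega
    · refine le_trans (le_of_eq ?_) (bessel a ((range k).filter fun j => sF ms j = 0) (mF ms) (fun j => L / mF ms j)
        (fun j hj => (hb2 j (Finset.mem_range.1 (Finset.mem_filter.1 hj).1)).2.1 (Finset.mem_filter.1 hj).2)
        (fun i hi j hj => ?_) χ)
      · rw [length_wts, hk, Finset.sum_filter]
        refine Finset.sum_congr rfl fun j hj => ?_
        rw [ntd_wts _ _ _ (hk ▸ Finset.mem_range.1 hj)]
        split_ifs with h7
        · rw [h7]
          rfl
        · rw [h0 j (Finset.mem_range.1 hj) h7, mul_zero, mul_zero]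
      · rw [Finset.mem_filter, Finset.mem_range] at hi hj
        rw [hGa i hi.1 j hj.1, gam, if_neg fun h : sF ms i = sF ms j ∧ sF ms i ≠ 0 => h.2 hi.2]
    · rw [length_wts] at hj
      rw [ntd_wts _ _ _ hj] at h7 ⊢
      rw [hk] at hj
      have h9 : sF ms j = 0 := by
        by_contra h9
        rw [Bool.cond_eq_ite, if_neg fun h => h9 (Nat.eq_of_beq_eq_true h)] at h7
        omega
      have h10 := (hb2 j hj).2.1 h9
      rw [h9, show cond (Nat.beq 0 0) (L / mF ms j) (L + 1) = L / mF ms j from rfl] at h7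
      have h11 : mF ms j = 2 := by
        have h11 : 2 * (L / mF ms j) = L := h7
        exact Nat.eq_of_mul_eq_mul_left (show 0 < L / mF ms j by omega) (h10.trans (h11.symm.trans (mul_comm _ _)))
      obtain ⟨ψ, h12⟩ := partner (by rw [hGa j hj j hj, gam, if_pos rfl, h11]; rfl) h8
        fun ψ => ∑ i ∈ range k, nth b i * a i ψ
      have h13 : (a j ⬝ᵥ fun ψ => ∑ i ∈ range k, nth b i * a i ψ) = nth b j * 2 := by
        rw [show (fun ψ => ∑ i ∈ range k, nth b i * a i ψ) = ∑ i ∈ range k, nth b i • a i from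
          funext fun ψ => by simp only [Finset.sum_apply, Pi.smul_apply, smul_eq_mul], dotProduct_sum,
          Finset.sum_eq_single j (fun i hi hij => by
            rw [dotProduct_smul, hGa j hj i (Finset.mem_range.1 hi), gam, if_neg (Ne.symm hij),
              if_neg fun h => h.2 h9, smul_zero]) fun h => absurd (Finset.mem_range.2 hj) h,
          dotProduct_smul, hGa j hj j hj, gam, if_pos rfl, h11]
        rfl
      obtain ⟨d', -, -, h14, h15⟩ := hdeg' ψ
      rw [h13, h4, h15, Int.natAbs_natCast] at h12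
      rw [show 2 * (nth b j * a j χ) = a j χ * (nth b j * 2) by ring, h12]
      exact h14
  choose ix hix1 hix2 hix3 using hcl
  have hcnt := count_sig hs a _ hGa ix (fun χ => by
    rcases lt_or_gt_of_ne (hix2 χ) with h | h
    · rw [Int.sign_eq_neg_one_of_neg h]; rfl
    · rw [Int.sign_eq_one_of_pos h]; rfl) hix3
  have hc2 : ∀ i < be.length, (ntd be (0, 0) i).1 < k + ns ∧
      (ntd be (0, 0) i).2 = (sdeg k (sF ms) (nth b) (ntd be (0, 0) i).1).sign ∧ (dg.getD i 0 : ℤ) =
        sdeg k (sF ms) (nth b) (ntd be (0, 0) i).1 * (sdeg k (sF ms) (nth b) (ntd be (0, 0) i).1).sign :=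
    fun i hi => by
      have h1 := allL_spec c2 i (List.mem_range.2 hi)
      simp only [frc_eq, frcZ_eq, Bool.and_eq_true, Nat.blt_eq, decide_eq_true_eq] at h1
      exact h1
  let b₀ : Fin be.length → Fin (k + ns) := fun i => ⟨(ntd be (0, 0) i).1, (hc2 i i.2).1⟩
  let b₁ : IrrCharacter G → Fin (k + ns) := fun χ => ⟨ix χ, hix1 χ⟩
  let e : Fin be.length ≃ IrrCharacter G := Equiv.ofFiberEquiv (f := b₀) (g := b₁) fun y =>
    Fintype.equivOfCardEq (by
      have h1 := Nat.eq_of_beq_eq_true (allL_spec c3 y (List.mem_range.2 y.2))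
      rw [← hcnt y y.2, ← cntP_eq _ be (0, 0), Nat.card_eq_fintype_card] at h1
      simp only [Nat.beq_eq] at h1
      refine Eq.trans ?_ (h1.trans (Fintype.card_congr (Equiv.subtypeEquivRight fun χ => ?_)))
      · rw [Fintype.card_subtype, Finset.card_filter, Finset.card_filter, ← Fin.sum_univ_eq_sum_range]
        exact Finset.sum_congr rfl fun i _ => by simp only [b₀, Fin.ext_iff]
      · simp only [b₁, Fin.ext_iff])
  have he : ∀ i, ix (e i) = (ntd be (0, 0) i).1 := fun i =>
    congrArg Fin.val (show b₁ (e i) = b₀ i from Equiv.ofFiberEquiv_map _ i)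
  have hn : (mkR C dg cs).n = be.length := c1
  rw [Tab, hn]
  refine ⟨fun j => if h : j < be.length then (e ⟨j, h⟩ : G → ℂ) else 0, ⟨fun j hj => ?_, fun i hi j hj h => ?_,
    fun ψ hψ => ?_, fun j hj => ?_⟩, fun r hr g => ?_⟩
  · rw [dif_pos hj]
    exact (e _).2
  · rw [dif_pos hi, dif_pos hj] at h
    exact congrArg Fin.val (e.injective (Subtype.ext h))
  · refine ⟨e.symm ⟨ψ, hψ⟩, (e.symm ⟨ψ, hψ⟩).2, ?_⟩
    rw [dif_pos (e.symm ⟨ψ, hψ⟩).2, Fin.eta, e.apply_symm_apply]
  · obtain ⟨d, -, h2, -, h4⟩ := hdeg' (e ⟨j, hj⟩)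
    rw [dif_pos hj, h2]
    have h5 : (d : ℤ) = dg.getD j 0 := by
      rw [(hc2 j hj).2.2, ← h4, Finset.sum_congr rfl fun i hi => by rw [hix3 _ i (Finset.mem_range.1 hi), he]]
      unfold sig
      split_ifs with h3
      · simp only [mul_ite, mul_zero, Finset.sum_ite_eq', Finset.mem_range, h3, if_true, sdeg]
      · simp only [mul_ite, mul_zero, ← Finset.sum_filter, ← Finset.sum_mul]
        rw [sdeg, if_neg h3]
    exact_mod_cast h5
  · obtain ⟨j, hj, rfl⟩ := mem_relL hr
    rw [d1] at hj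
    have h1 := of_decide_eq_true (allL_spec d2 j (List.mem_range.2 hj))
    refine ((congrArg (fun c : List (ℕ × ℤ) => (c.map fun p => (p.2 : ℂ) *
      (if h : p.1 < be.length then (e ⟨p.1, h⟩ : G → ℂ) else 0) g).sum) h1.symm).trans (relC_sum k j (sF ms) be 0
        fun i => (if h : i < be.length then (e ⟨i, h⟩ : G → ℂ) else 0) g)).trans ?_
    show _ = (((rwL C (0 + j)).getD (T.ty g) 0 : ℤ) : ℂ)
    rw [← nth_eq, zero_add, nth_rwL, show (rw C j (T.ty g) : ℂ) = _ from apply_mu (hv j hj) g,
      ← e.sum_comp, ← Fin.sum_univ_eq_sum_range]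
    refine Finset.sum_congr rfl fun i _ => ?_
    simp only [zero_add]
    rw [dif_pos i.2, ← ha j hj, hix3 _ j hj, he, (hc2 i i.2).2.1]
    rfl

end Cfsg.Agent.TAB.Eng
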