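import Cfsg.Agent.TAB.Eng.Fin
import Cfsg.Agent.TAB.Use.Main

/-!
# The table from orthogonal rows of norms one and two, given by columns (helper16, TAB engine)

`tab_of_sep` : as `tab_of_cols`; two rows of norm two are separated by degrees, parities or indicators.
-/

set_option autoImplicit false

namespace Cfsg.Agent.TAB.Eng

open Cfsg Finset Cfsg.Agent.Characters Cfsg.Agent.Characters.Core Cfsg.Agent.H447.CTab Cfsg.Agent.TAB.Use
open scoped ComplexConjugate

universe u

theorem abs_of_norm {I : Type*} [Fintype I] {u : I → ℤ} {m : ℕ} (hm : m ≤ 2) (hu : u ⬝ᵥ u = m) (x : I) :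
    (u x).natAbs ≤ 1 := by
  have h1 := sq_le_dot u x
  have h2 : (m : ℤ) ≤ 2 := by exact_mod_cast hm
  have : -2 < u x ∧ u x < 2 := by constructor <;> nlinarith
  omega

theorem two_of_perp {I : Type*} [Fintype I] [DecidableEq I] {u v : I → ℤ} {m n : ℕ} (hm : m ≤ 2) (hn : n ≤ 2)
    (hu : u ⬝ᵥ u = m) (hv : v ⬝ᵥ v = n) (h : u ⬝ᵥ v = 0) {x : I} (hx : u x ≠ 0) (hx' : v x ≠ 0) :
    m = 2 ∧ n = 2 ∧ ∃ s e : ℤ, (s = 1 ∨ s = -1) ∧ (e = 1 ∨ e = -1) ∧
      ∀ y, u y + s * v y = if y = x then 2 * e else 0 := by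
  have h3 : u x = 1 ∨ u x = -1 := by
    have := abs_of_norm hm hu x
    omega
  have h4 : v x = 1 ∨ v x = -1 := by
    have := abs_of_norm hn hv x
    omega
  obtain ⟨s, hs, h5⟩ : ∃ s : ℤ, (s = 1 ∨ s = -1) ∧ s * v x = u x := by
    rcases h3 with h3 | h3 <;> rcases h4 with h4 | h4 <;> rw [h3, h4] <;> simp
  have h6 : (u + s • v) ⬝ᵥ (u + s • v) = m + n := by
    simp only [add_dotProduct, dotProduct_add, smul_dotProduct, dotProduct_smul, hu, hv, h, dotProduct_comm v u,
      smul_eq_mul]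
    rcases hs with rfl | rfl <;> ring
  have h7 : (u + s • v) x * (u + s • v) x = 4 := by
    simp only [Pi.add_apply, Pi.smul_apply, smul_eq_mul, h5]
    rcases h3 with h3 | h3 <;> rw [h3] <;> rfl
  rw [dotProduct, ← Finset.add_sum_erase _ _ (mem_univ x), h7] at h6
  have h8 : ∀ y ∈ univ.erase x, 0 ≤ (u + s • v) y * (u + s • v) y := fun _ _ => mul_self_nonneg _
  have h9 := Finset.sum_nonneg h8
  refine ⟨by omega, by omega, s, u x, hs, h3, fun y => ?_⟩
  split_ifs with hy
  · rw [hy, h5, two_mul]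
  · exact mul_self_eq_zero.1 ((Finset.sum_eq_zero_iff_of_nonneg h8).1 (by omega) y (mem_erase.2 ⟨hy, mem_univ y⟩))

/-- the function `u` is not twice an irreducible character up to sign -/
noncomputable def sepS (D : Dat) (u : List ℤ) : Bool :=
  (2 * (D.N : ℤ)) % nth u 0 != 0 || ((List.range D.n).any fun t => nth u t % 2 != 0 && decide (0 < D.cnt t)) ||
    ip D ((List.range D.n).map fun t => 2 * nth u (D.pwf t 2) - nth u t ^ 2) (List.replicate D.n 1) %
      (8 * (D.N : ℤ)) != 0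

/-- the rows of norm two are separated -/
noncomputable def okSep (D : Dat) (C : List (List ℤ)) (ms : List (ℕ × ℕ)) : Bool :=
  allL (fun j => Nat.blt (mF ms j) 2 || allL (fun i => Nat.blt (mF ms i) 2 ||
    (frcLZ (C.map fun c => nth c j + 1 * nth c i) (sepS D) && frcLZ (C.map fun c => nth c j + -1 * nth c i) (sepS D)))
    (List.range j)) (List.range ms.length)

/-- the final check -/
noncomputable def okFin0 (D : Dat) (C : List (List ℤ)) (ms : List (ℕ × ℕ)) (b : List ℤ)
    (be : List (ℕ × ℤ)) (dg : List ℕ) (cs : List (List (ℕ × ℤ))) : Bool :=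
  frc ms.length fun k =>
    (Nat.blt 0 D.n && Nat.beq (D.ord 0) 1 && Nat.blt 0 (D.cnt 0) && Nat.ble b.length k && okRho D.N b C) &&
    (allL (fun p => Nat.beq p.2 0) ms && okSep D C ms) &&
    (Nat.beq dg.length be.length && allL (fun i => frc (ntd be (0, 0) i).1 fun y => Nat.blt y (k + 0) &&
        frcZ (sdeg k (sF ms) (nth b) y) fun d => decide ((ntd be (0, 0) i).2 = d.sign) &&
          decide ((dg.getD i 0 : ℤ) = d * d.sign)) (List.range be.length) &&
      allL (fun y => Nat.beq (cntP (fun p => Nat.beq p.1 y) be) (mlt k (mF ms) (sF ms) y)) (List.range (k + 0))) &&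
    (Nat.beq cs.length k && allL (fun j => decide (relC k j (sF ms j) be 0 = ntd cs [] j)) (List.range k))

variable {G : Type u} [Group G] {D : Dat} {T : TD G D}

theorem nth_map_range (f : ℕ → ℤ) {n t : ℕ} (h : t < n) : nth ((List.range n).map f) t = f t := by
  rw [nth_eq, List.getD_eq_getElem _ _ (by simpa using h), List.getElem_map, List.getElem_range]

theorem not_sepS [Finite G] (hm : T.Mass) (hL : D.okLen) (h0 : T.ty 1 = 0) {u : List ℤ} (χ : IrrCharacter G) {e : ℤ}
    (he : e = 1 ∨ e = -1) (h : ∀ g, (nth u (T.ty g) : ℂ) = 2 * e * (χ : G → ℂ) g) : ¬ sepS D u = true := by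
  have := Fintype.ofFinite G
  have hg : IsGeneralizedCharacter G (e • (χ : G → ℂ)) := zsmul_mem (S := Subring (G → ℂ)) (K := genRing G)
    (Brauer.isGeneralizedCharacter_of_isCharacter (isIrr_isCharacter χ.2)) _
  have h' : ∀ g, (e • (χ : G → ℂ)) g = nth u (T.ty g) / 2 := fun g => by
    rw [h, Pi.smul_apply, zsmul_eq_mul]
    ring
  simp only [sepS, Bool.or_eq_true, bne_iff_ne, List.any_eq_true, List.mem_range, Bool.and_eq_true,
    decide_eq_true_eq]
  rintro ((h1 | ⟨t, ht, h1, h2⟩) | h1)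
  · obtain ⟨d, -, h2, c, h3⟩ := degree_dvd χ
    have h4 := h 1
    rw [h0, h2] at h4
    have h5 : nth u 0 = 2 * e * d := by exact_mod_cast h4
    refine h1 (Int.emod_eq_zero_of_dvd ⟨e * c, ?_⟩)
    rw [← hm.1, h3, h5]
    rcases he with rfl | rfl <;> push_cast <;> ring
  · rw [← hm.2 t ht] at h2
    obtain ⟨⟨x, rfl⟩⟩ := (Nat.card_pos_iff.1 h2).1
    exact h1 (even_of_integral (gen_integral hg x) (by rw [h', add_halves]))
  · have h2 := inner_mu (gen_delta hg Nat.prime_two) ⟨1, isIrr_one⟩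
    have h3 := inner_eq hm hL.2.1 ((List.range D.n).map fun t => 2 * nth u (D.pwf t 2) - nth u t ^ 2)
      (List.replicate D.n 1)
    generalize mu (gen_delta hg Nat.prime_two) ⟨1, isIrr_one⟩ = z at h2
    have h4 : fn T ((List.range D.n).map fun t => 2 * nth u (D.pwf t 2) - nth u t ^ 2) =
        (8 : ℂ) • fun g => ((e • (χ : G → ℂ)) (g ^ 2) - (e • (χ : G → ℂ)) g ^ 2) / (2 : ℕ) := by
      funext g
      simp only [fn, nth_map_range _ (T.lt g), h', T.pow, Pi.smul_apply, smul_eq_mul]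
      push_cast
      ring
    have h5 : fn T (List.replicate D.n 1) = 1 := by
      funext g
      rw [fn, nth_eq, List.getD_eq_getElem _ _ (by simpa using T.lt g), List.getElem_replicate, Int.cast_one]
      rfl
    rw [h4, h5, classInner_smul_left, show classInner _ 1 = _ from h2] at h3
    refine h1 (Int.emod_eq_zero_of_dvd ⟨z, ?_⟩)
    have h6 : ((8 * D.N * z : ℤ) : ℂ) = _ := (by push_cast; ring : ((8 * D.N * z : ℤ) : ℂ) = D.N * (8 * z)).trans h3
    exact_mod_cast h6.symm

/-- **The table of the irreducible characters.** -/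
theorem tab_of_sep [Finite G] (hm : T.Mass) (hL : D.okLen) {C : List (List ℤ)} {ms : List (ℕ × ℕ)} {b : List ℤ}
    {B : ℕ} {be : List (ℕ × ℤ)} {dg : List ℕ} {cs : List (List (ℕ × ℤ))} (hG : chkG D C ms 2 B = true)
    (hF : okFin0 D C ms b be dg cs = true) (hv : ∀ j < ms.length, Virt T (rw C j)) :
    Tab T (mkR C dg cs) := by
  classical
  have := Fintype.ofFinite G
  have := finite_irr (G := G)
  have := Fintype.ofFinite (IrrCharacter G)
  obtain ⟨hmx, hG⟩ := gram_of_chkG hL hG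
  rw [okFin0, frc_eq, okSep] at hF
  simp only [Bool.and_eq_true, Nat.blt_eq, Nat.beq_eq, Nat.ble_eq] at hF
  obtain ⟨⟨⟨⟨⟨⟨⟨a1, a2⟩, a3⟩, a4⟩, a5⟩, b2, b4⟩, ⟨c1, c2⟩, c3⟩, d1, d2⟩ := hF
  generalize hk : ms.length = k at *
  let a : ℕ → IrrCharacter G → ℤ := fun j => if h : j < k then mu (hv j h) else 0
  have ha : ∀ j (h : j < k), a j = mu (hv j h) := fun j h => dif_pos h
  have hb2 : ∀ j < k, sF ms j = 0 := fun j hj =>
    Nat.eq_of_beq_eq_true (allL_spec b2 _ (ntd_mem' ms (0, 0) (hk ▸ hj)))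
  have hGa : ∀ i < k, ∀ j < k, a i ⬝ᵥ a j = gam (mF ms) (sF ms) i j := fun i hi j hj => by
    have h1 := (inner_of_ipF hm (hG i hi j hj)).symm.trans (inner_sum_mu (hv i hi) (hv j hj))
    rw [ha i hi, ha j hj]
    exact_mod_cast h1.symm
  have hs : Shape k 0 (mF ms) (sF ms) := ⟨fun j hj => (hb2 j hj).le, fun j hj h => absurd (hb2 j hj) h,
    fun s hs => (by cases hs), fun s hs => by cases hs⟩
  have h0 := TD.ty_eq_zero hm a1 a2 a3
  have hdis : ∀ χ, ∀ j < k, ∀ i < j, a j χ ≠ 0 → a i χ = 0 := fun χ j hj i hi h1 => by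
    by_contra h2
    have hi' := hi.trans hj
    obtain ⟨h3, h4, s, e, h5, h6, h7⟩ := two_of_perp (hmx j) (hmx i) ((hGa j hj j hj).trans (if_pos rfl))
      ((hGa i hi' i hi').trans (if_pos rfl)) ((hGa j hj i hi').trans
        ((if_neg hi.ne').trans (if_neg fun h => h.2 (hb2 j hj)))) h1 h2
    have h8 := allL_spec b4 j (List.mem_range.2 hj)
    rw [h3] at h8
    have h9 := allL_spec h8 i (List.mem_range.2 hi)
    rw [h4, frcLZ_eq, frcLZ_eq] at h9
    have h10 : sepS D (C.map fun c => nth c j + s * nth c i) = true := by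
      have h10 := Bool.and_eq_true _ _ ▸ h9
      rcases h5 with rfl | rfl
      · exact h10.1
      · exact h10.2
    refine not_sepS hm hL ((h0 1).2 rfl) χ h6 (fun g => ?_) h10
    have h11 : ∀ t, nth (C.map fun c => nth c j + s * nth c i) t = rw C j t + s * rw C i t := fun t => by
      clear * -
      induction C generalizing t with
      | nil => exact (by simp : (0 : ℤ) = 0 + s * 0)
      | cons c C ih => cases t with
        | zero => rfl
        | succ t => exact ih t
    rw [h11, Int.cast_add, Int.cast_mul, show (rw C j (T.ty g) : ℂ) = _ from apply_mu (hv j hj) g,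
      show (rw C i (T.ty g) : ℂ) = _ from apply_mu (hv i hi') g, Finset.mul_sum, ← Finset.sum_add_distrib,
      ← ha j hj, ← ha i hi', Finset.sum_congr rfl fun y _ => by
        rw [← mul_assoc, ← add_mul, ← Int.cast_mul, ← Int.cast_add, h7 y]]
    simp
  have hdeg : ∀ χ : IrrCharacter G, ((∑ j ∈ range k, nth b j * a j χ : ℤ) : ℂ) = conj ((χ : G → ℂ) 1) := fun χ => by
    have h1 : ∀ j ∈ range k, ((nth b j * a j χ : ℤ) : ℂ) =
        classInner ((nth b j : ℂ) • fun g => (rw C j (T.ty g) : ℂ)) (χ : G → ℂ) := fun j hj => by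
      rw [classInner_smul_left, ha j (Finset.mem_range.1 hj), Int.cast_mul]
      exact congrArg _ (inner_mu _ _).symm
    rw [Int.cast_sum, Finset.sum_congr rfl h1, ← classInner_sum_left, classInner_def,
      Finset.sum_eq_single 1 (fun g _ hg => ?_) fun h => absurd (Finset.mem_univ _) h]
    · have h2 := congrArg (Int.cast : ℤ → ℂ) (okRho_spec a5 a4 (T.ty 1))
      rw [if_pos ((h0 1).2 rfl)] at h2
      push_cast at h2
      simp only [Finset.sum_apply, Pi.smul_apply, smul_eq_mul]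
      rw [h2, ← hm.1, inv_mul_cancel_left₀ card_ne_zero_complex]
    · have h2 := congrArg (Int.cast : ℤ → ℂ) (okRho_spec a5 a4 (T.ty g))
      rw [if_neg fun h => hg ((h0 g).1 h)] at h2
      push_cast at h2
      simp only [Finset.sum_apply, Pi.smul_apply, smul_eq_mul]
      rw [h2, zero_mul]
  have hdeg' : ∀ χ : IrrCharacter G, ∃ d : ℕ, 0 < d ∧ (χ : G → ℂ) 1 = d ∧
      ∑ j ∈ range k, nth b j * a j χ = d := fun χ => by
    obtain ⟨d, h1, h2, -⟩ := degree_dvd χ
    refine ⟨d, h1, h2, ?_⟩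
    have h4 := hdeg χ
    rw [h2, Complex.conj_natCast] at h4
    exact_mod_cast h4
  have hcl : ∀ χ : IrrCharacter G, ∃ y < k + 0, sdeg k (sF ms) (nth b) y ≠ 0 ∧
      ∀ j < k, a j χ = sig k (sF ms) (fun y => (sdeg k (sF ms) (nth b) y).sign) y j := fun χ => by
    obtain ⟨d, h1, -, h4⟩ := hdeg' χ
    refine classify hs a (nth b) hGa χ (by rw [h4]; exact_mod_cast h1) fun _ => ?_
    by_cases h5 : ∃ j < k, a j χ ≠ 0
    · obtain ⟨j, hj, h5⟩ := h5
      rw [Finset.sum_eq_single j (fun i hi hij => ?_) fun h => absurd (mem_range.2 hj) h]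
      · exact abs_of_norm (hmx j) ((hGa j hj j hj).trans (if_pos rfl)) χ
      · rw [Int.natAbs_eq_zero]
        rcases lt_or_gt_of_ne hij with h6 | h6
        · exact hdis χ j hj i h6 h5
        · exact by_contra fun h7 => h5 (hdis χ i (mem_range.1 hi) j h6 h7)
    · push Not at h5
      rw [Finset.sum_eq_zero fun j hj => by rw [h5 j (mem_range.1 hj), Int.natAbs_zero]]
      exact Nat.zero_le _
  choose ix hix1 hix2 hix3 using hcl
  have hcnt := count_sig hs a _ hGa ix (fun χ => by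
    rcases lt_or_gt_of_ne (hix2 χ) with h | h
    · rw [Int.sign_eq_neg_one_of_neg h]; rfl
    · rw [Int.sign_eq_one_of_pos h]; rfl) hix3
  have hc2 : ∀ i < be.length, (ntd be (0, 0) i).1 < k + 0 ∧
      (ntd be (0, 0) i).2 = (sdeg k (sF ms) (nth b) (ntd be (0, 0) i).1).sign ∧ (dg.getD i 0 : ℤ) =
        sdeg k (sF ms) (nth b) (ntd be (0, 0) i).1 * (sdeg k (sF ms) (nth b) (ntd be (0, 0) i).1).sign :=
    fun i hi => by
      have h1 := allL_spec c2 i (List.mem_range.2 hi)
      simp only [frc_eq, frcZ_eq, Bool.and_eq_true, Nat.blt_eq, decide_eq_true_eq] at h1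
      exact h1
  let b₀ : Fin be.length → Fin (k + 0) := fun i => ⟨(ntd be (0, 0) i).1, (hc2 i i.2).1⟩
  let b₁ : IrrCharacter G → Fin (k + 0) := fun χ => ⟨ix χ, hix1 χ⟩
  let e : Fin be.length ≃ IrrCharacter G := Equiv.ofFiberEquiv (f := b₀) (g := b₁) fun y =>
    Fintype.equivOfCardEq (by
      have h1 := Nat.eq_of_beq_eq_true (allL_spec c3 y (List.mem_range.2 y.2))
      rw [← hcnt y y.2, ← cntP_eq _ be (0, 0), Nat.card_eq_fintype_card] at h1
      simp only [Nat.beq_eq] at h1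
      refine Eq.trans ?_ (h1.trans (Fintype.card_congr (Equiv.subtypeEquivRight fun χ => ?_)))
      · rw [Fintype.card_subtype, Finset.card_filter, Finset.card_filter, ← Fin.sum_univ_eq_sum_range]
        exact Finset.sum_congr rfl fun i _ => by simp only [b₀, Fin.ext_iff]
      · simp only [b₁, Fin.ext_iff])
  have he : ∀ i, ix (e i) = (ntd be (0, 0) i).1 := fun i =>
    congrArg Fin.val (show b₁ (e i) = b₀ i from Equiv.ofFiberEquiv_map _ i)
  have hn : (mkR C dg cs).n = be.length := c1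
  rw [Tab, hn]
  refine ⟨fun j => if h : j < be.length then (e ⟨j, h⟩ : G → ℂ) else 0, ⟨fun j hj => ?_, fun i hi j hj h => ?_,
    fun ψ hψ => ?_, fun j hj => ?_⟩, fun r hr g => ?_⟩
  · rw [dif_pos hj]
    exact (e _).2
  · rw [dif_pos hi, dif_pos hj] at h
    exact congrArg Fin.val (e.injective (Subtype.ext h))
  · refine ⟨e.symm ⟨ψ, hψ⟩, (e.symm ⟨ψ, hψ⟩).2, ?_⟩
    rw [dif_pos (e.symm ⟨ψ, hψ⟩).2, Fin.eta, e.apply_symm_apply]
  · obtain ⟨d, -, h2, h4⟩ := hdeg' (e ⟨j, hj⟩)
    rw [dif_pos hj, h2]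
    have h5 : (d : ℤ) = dg.getD j 0 := by
      rw [(hc2 j hj).2.2, ← h4, Finset.sum_congr rfl fun i hi => by rw [hix3 _ i (Finset.mem_range.1 hi), he]]
      unfold sig
      split_ifs with h3
      · simp only [mul_ite, mul_zero, Finset.sum_ite_eq', Finset.mem_range, h3, if_true, sdeg]
      · simp only [mul_ite, mul_zero, ← Finset.sum_filter, ← Finset.sum_mul]
        rw [sdeg, if_neg h3]
    exact_mod_cast h5
  · obtain ⟨j, hj, rfl⟩ := mem_relL hr
    rw [d1] at hj
    have h1 := of_decide_eq_true (allL_spec d2 j (List.mem_range.2 hj))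
    refine ((congrArg (fun c : List (ℕ × ℤ) => (c.map fun p => (p.2 : ℂ) *
      (if h : p.1 < be.length then (e ⟨p.1, h⟩ : G → ℂ) else 0) g).sum) h1.symm).trans (relC_sum k j (sF ms) be 0
        fun i => (if h : i < be.length then (e ⟨i, h⟩ : G → ℂ) else 0) g)).trans ?_
    show _ = (((rwL C (0 + j)).getD (T.ty g) 0 : ℤ) : ℂ)
    rw [← nth_eq, zero_add, nth_rwL, show (rw C j (T.ty g) : ℂ) = _ from apply_mu (hv j hj) g,
      ← e.sum_comp, ← Fin.sum_univ_eq_sum_range]
    refine Finset.sum_congr rfl fun i _ => ?_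
    simp only [zero_add]
    rw [dif_pos i.2, ← ha j hj, hix3 _ j hj, he, (hc2 i i.2).2.1]
    rfl

end Cfsg.Agent.TAB.Eng
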