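import Cfsg.Agent.H139.Cusp.Adams
import Cfsg.Agent.Characters.Brauer

/-!
# The operation `δ_ℓ φ = (ψ^ℓ φ - φ^ℓ) / ℓ` on generalized characters (helper16, TAB engine)
-/

set_option autoImplicit false

namespace Cfsg.Agent.TAB.Eng

open Cfsg Cfsg.Agent.Characters.Core Cfsg.Agent.Characters.Brauer Cfsg.Agent.H139.Cusp
open scoped ComplexConjugate

universe u

/-- the ring of generalized characters -/
def genRing (G : Type u) [Group G] : Subring (G → ℂ) where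
  carrier := {φ | IsGeneralizedCharacter G φ}
  mul_mem' := isGeneralizedCharacter_mul
  one_mem' := isGeneralizedCharacter_of_isCharacter isCharacter_one
  add_mem' := isGeneralizedCharacter_add
  zero_mem' := isGeneralizedCharacter_zero
  neg_mem' := isGeneralizedCharacter_neg

theorem mem_genRing {G : Type u} [Group G] {φ : G → ℂ} : φ ∈ genRing G ↔ IsGeneralizedCharacter G φ := Iff.rfl

theorem exists_adams' {G : Type u} [Group G] [Finite G] {χ : G → ℂ} (hχ : IsCharacter G χ)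
    (ℓ : ℕ) [hℓ : Fact ℓ.Prime] : ∃ Ψ : G × Multiplicative (ZMod ℓ) → ℂ,
      IsCharacter (G × Multiplicative (ZMod ℓ)) Ψ ∧ (∀ g : G, Ψ (g, 1) = χ g ^ ℓ) ∧
        ∀ (g : G) (k : ZMod ℓ), k ≠ 0 → Ψ (g, Multiplicative.ofAdd k) = χ (g ^ ℓ) := by
  classical
  obtain ⟨n, ρ, rfl⟩ := hχ
  let M : G →* Matrix (Fin n) (Fin n) ℂ :=
    ((LinearMap.toMatrixAlgEquiv' : ((Fin n → ℂ) →ₗ[ℂ] (Fin n → ℂ)) ≃ₐ[ℂ] Matrix (Fin n) (Fin n) ℂ) :
      ((Fin n → ℂ) →ₗ[ℂ] (Fin n → ℂ)) →* Matrix (Fin n) (Fin n) ℂ).comp ρ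
  have hM : ∀ g, (M g).trace = ρ.character g := by
    intro g
    show (LinearMap.toMatrix' (ρ g)).trace = LinearMap.trace ℂ (Fin n → ℂ) (ρ g)
    rw [← Matrix.trace_toLin'_eq, Matrix.toLin'_toMatrix']
  have h0 : (Equiv.addRight (0 : ZMod ℓ) : Equiv.Perm (ZMod ℓ)) = 1 := by
    ext i
    show ((i + 0 : ZMod ℓ)) = _
    rw [add_zero]
    rfl
  let f : G × Multiplicative (ZMod ℓ) →* Matrix (ZMod ℓ → Fin n) (ZMod ℓ → Fin n) ℂ :=
    { toFun := fun x => tpow (ZMod ℓ) (M x.1) * pmat ℂ (Fin n) (Equiv.addRight x.2.toAdd)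
      map_one' := by
        have h1 : (Equiv.addRight (Multiplicative.toAdd (1 : G × Multiplicative (ZMod ℓ)).2) :
            Equiv.Perm (ZMod ℓ)) = 1 := h0
        rw [h1, pmat_one, mul_one, Prod.fst_one, map_one, tpow_one]
      map_mul' := fun x y => by
        have h1 : (Equiv.addRight (Multiplicative.toAdd (x * y).2) : Equiv.Perm (ZMod ℓ)) =
            Equiv.addRight (Multiplicative.toAdd x.2) * Equiv.addRight (Multiplicative.toAdd y.2) := by
          ext i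
          show i + (x.2.toAdd + y.2.toAdd) = i + y.2.toAdd + x.2.toAdd
          ring
        rw [h1, pmat_mul, Prod.fst_mul, map_mul, tpow_mul, mul_assoc, mul_assoc]
        congr 1
        rw [← mul_assoc, ← pmat_comm, mul_assoc] }
  let ρ' : Representation ℂ (G × Multiplicative (ZMod ℓ)) ((ZMod ℓ → Fin n) → ℂ) :=
    ((Matrix.toLinAlgEquiv' : Matrix (ZMod ℓ → Fin n) (ZMod ℓ → Fin n) ℂ ≃ₐ[ℂ] _) :
      Matrix (ZMod ℓ → Fin n) (ZMod ℓ → Fin n) ℂ →* _).comp f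
  have h1 : ∀ g k, ρ'.character (g, Multiplicative.ofAdd k) =
      (tpow (ZMod ℓ) (M g) * pmat ℂ (Fin n) (Equiv.addRight k)).trace := fun g k =>
    Matrix.trace_toLin'_eq _
  refine ⟨ρ'.character, isCharacter_of_rep ρ', fun g => ?_, fun g k hk => ?_⟩
  · refine (h1 g 0).trans ?_
    rw [trace_tpow_pmat, ← hM, h0]
    have h2 : (M g).trace ^ ℓ = ∏ _i : ZMod ℓ, ∑ a : Fin n, M g a a := by
      rw [Finset.prod_const, Finset.card_univ, ZMod.card]
      rfl
    rw [h2, Finset.prod_univ_sum, Fintype.piFinset_univ]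
    rfl
  · rw [h1, trace_tpow_pmat, ← hM, map_pow]
    exact trace_shift (M g) hk

theorem char_delta {G : Type u} [Group G] [Finite G] {χ : G → ℂ} (hχ : IsCharacter G χ) {ℓ : ℕ}
    (hℓ : ℓ.Prime) : IsGeneralizedCharacter G fun g => (χ (g ^ ℓ) - χ g ^ ℓ) / ℓ := by
  have : Fact ℓ.Prime := ⟨hℓ⟩
  obtain ⟨Ψ, hΨ, h0, h1⟩ := exists_adams' hχ ℓ
  have h2 := slice_isCharacter hΨ (isCharacter_one (G := Multiplicative (ZMod ℓ)))
  have h3 := isGeneralizedCharacter_sub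
    (isGeneralizedCharacter_pow (isGeneralizedCharacter_of_isCharacter hχ) ℓ)
    (isGeneralizedCharacter_of_isCharacter h2)
  refine (?_ : _ = fun g => (χ (g ^ ℓ) - χ g ^ ℓ) / ℓ) ▸ h3
  funext g
  have hc : (ℓ : ℂ) ≠ 0 := by exact_mod_cast hℓ.ne_zero
  have h4 : ∑ a : Multiplicative (ZMod ℓ), Ψ (g, a) * conj ((1 : Multiplicative (ZMod ℓ) → ℂ) a) =
      χ g ^ ℓ + ((ℓ : ℂ) - 1) * χ (g ^ ℓ) := by
    classical
    rw [← Finset.add_sum_erase _ _ (Finset.mem_univ 1), h0, Pi.one_apply, map_one, mul_one,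
      Finset.sum_congr rfl (g := fun _ => χ (g ^ ℓ)), Finset.sum_const, Finset.card_erase_of_mem (Finset.mem_univ _),
      Finset.card_univ, Fintype.card_multiplicative, ZMod.card, nsmul_eq_mul, Nat.cast_sub hℓ.one_le, Nat.cast_one]
    intro a ha
    rw [Pi.one_apply, map_one, mul_one]
    exact h1 g a.toAdd fun h => (Finset.mem_erase.1 ha).1 h
  rw [Pi.sub_apply, h4, Nat.card_eq_fintype_card, Fintype.card_multiplicative, ZMod.card]
  field_simp
  ring

/-- **`δ_ℓ` of a generalized character is a generalized character.** -/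
theorem gen_delta {G : Type u} [Group G] [Finite G] {φ : G → ℂ} (hφ : IsGeneralizedCharacter G φ) {ℓ : ℕ}
    (hℓ : ℓ.Prime) : IsGeneralizedCharacter G fun g => (φ (g ^ ℓ) - φ g ^ ℓ) / ℓ := by
  obtain ⟨α, β, hα, hβ, h⟩ := id hφ
  have hβ' := isGeneralizedCharacter_of_isCharacter hβ
  obtain ⟨r, hr⟩ := exists_add_pow_prime_eq hℓ (⟨φ, hφ⟩ : genRing G) ⟨β, hβ'⟩
  have h1 := isGeneralizedCharacter_add (isGeneralizedCharacter_sub (char_delta hα hℓ) (char_delta hβ hℓ))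
    (isGeneralizedCharacter_mul (isGeneralizedCharacter_mul hφ hβ') r.2)
  refine (?_ : _ = fun g => (φ (g ^ ℓ) - φ g ^ ℓ) / ℓ) ▸ h1
  funext g
  have hc : (ℓ : ℂ) ≠ 0 := by exact_mod_cast hℓ.ne_zero
  have h2 : (φ g + β g) ^ ℓ = φ g ^ ℓ + β g ^ ℓ + ℓ * φ g * β g * (r : G → ℂ) g :=
    congrFun (congrArg Subtype.val hr) g
  have h3 : ∀ x, α x = φ x + β x := fun x => by rw [h, Pi.sub_apply, sub_add_cancel]
  simp only [Pi.add_apply, Pi.sub_apply, Pi.mul_apply]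
  rw [h3 g, h3 (g ^ ℓ), h2]
  field_simp
  ring

end Cfsg.Agent.TAB.Eng
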