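import Cfsg.Agent.H447.CTab
import Cfsg.Agent.Characters.GaloisBasic

/-!
# Tables of types (helper16, TAB engine): definitions

A *type* is a union of classes, closed under the generators of cyclic subgroups, which is recognized by the
order and the values of a key on the powers.

* `Dat` : the numerical data; `Key` : the invariant; `Ty K D val i g` : `g` has the type `i`;
* `Box K D val i` : lower bound of the number of elements of type `i`; `BoxC` : one element with a small centralizer;
* `TD G D` : a type function on the whole group; `TD.Mass` : the exact number of the elements of each type;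
* `exists_td` : the boxes of all types give `TD` and `Mass`.
-/

set_option autoImplicit false

namespace Cfsg.Agent.TAB.Eng

open Cfsg

universe u v

/-- numerical data: `n` types, group order `N`, element orders, numbers of elements, and for each type the list
of all divisors `d` of the order with the type of the `d`-th powers -/
structure Dat where
  n : ℕ
  N : ℕ
  ordL : List ℕ
  cntL : List ℕ
  pwL : List (List (ℕ × ℕ))

/-- lookup in an association list -/
def look : List (ℕ × ℕ) → ℕ → ℕ
  | [], _ => 0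
  | p :: l, d => if p.1 = d then p.2 else look l d

theorem look_realised : True := by have := @look.eq_def; trivial

/-- the order of the elements of type `i` -/
def Dat.ord (D : Dat) (i : ℕ) : ℕ := D.ordL.getD i 0

/-- the number of elements of type `i` -/
def Dat.cnt (D : Dat) (i : ℕ) : ℕ := D.cntL.getD i 0

/-- the divisors of the order with the types of the powers -/
def Dat.pw (D : Dat) (i : ℕ) : List (ℕ × ℕ) := D.pwL.getD i []

/-- the type of the `k`-th powers of the elements of type `i` -/
def Dat.pwf (D : Dat) (i k : ℕ) : ℕ := look (D.pw i) (Nat.gcd k (D.ord i))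

/-- an invariant of the elements: `P g a` says that the value at `g` is `a` -/
structure Key (G : Type u) [Group G] (α : Type v) where
  P : G → α → Prop
  func : ∀ g a b, P g a → P g b → a = b
  conj : ∀ g h a, P g a → P (h * g * h⁻¹) a
  gal : ∀ g k a, Nat.Coprime k (orderOf g) → P g a → P (g ^ k) a

section

variable {G : Type u} [Group G] {α : Type v}

/-- `g` has the type `i` -/
def Ty (K : Key G α) (D : Dat) (val : ℕ → α) (i : ℕ) (g : G) : Prop :=
  orderOf g = D.ord i ∧ ∀ p ∈ D.pw i, K.P (g ^ p.1) (val p.2)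

/-- the signature of a type: the divisors of the order and the values of the key on the powers -/
def sg (D : Dat) (val : ℕ → α) (i : ℕ) : ℕ × List (ℕ × α) := (D.ord i, (D.pw i).map fun p => (p.1, val p.2))

theorem ty_iff {K : Key G α} {D : Dat} {val : ℕ → α} {i o : ℕ} {l : List (ℕ × α)} (h : sg D val i = (o, l))
    (g : G) : Ty K D val i g ↔ orderOf g = o ∧ ∀ p ∈ l, K.P (g ^ p.1) p.2 := by
  obtain ⟨h1, h2⟩ := Prod.mk.inj h
  rw [Ty, ← h1, ← h2]
  simp only [List.mem_map, forall_exists_index, and_imp, forall_apply_eq_imp_iff₂]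

/-- **the box of the type `i`**: a lower bound of the number of elements -/
def Box (K : Key G α) (D : Dat) (val : ℕ → α) (i : ℕ) : Prop :=
  D.cnt i ≤ Nat.card {g : G // Ty K D val i g}

/-- **the strong box of the type `i`**: one element of the type whose class is large enough -/
def BoxC (K : Key G α) (D : Dat) (val : ℕ → α) (i : ℕ) : Prop :=
  ∃ x : G, Ty K D val i x ∧ D.cnt i * Nat.card (Subgroup.centralizer ({x} : Set G)) ≤ Nat.card G

theorem orderOf_conj' (g h : G) : orderOf (h * g * h⁻¹) = orderOf g := by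
  have := (MulAut.conj h).orderOf_eq g
  simpa using this

theorem Ty.conj {K : Key G α} {D : Dat} {val : ℕ → α} {i : ℕ} {g : G} (hg : Ty K D val i g) (h : G) :
    Ty K D val i (h * g * h⁻¹) := by
  refine ⟨(orderOf_conj' g h).trans hg.1, fun p hp => ?_⟩
  rw [conj_pow]
  exact K.conj _ _ _ (hg.2 p hp)

theorem Ty.isConj {K : Key G α} {D : Dat} {val : ℕ → α} {i : ℕ} {g x : G} (hg : Ty K D val i g)
    (h : IsConj g x) : Ty K D val i x := by
  obtain ⟨c, rfl⟩ := isConj_iff.1 h
  exact hg.conj c

/-- the length of a class -/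
theorem card_class [Finite G] (x : G) :
    Nat.card {g : G // IsConj x g} * Nat.card (Subgroup.centralizer ({x} : Set G)) = Nat.card G := by
  classical
  have := Fintype.ofFinite G
  rw [← H447.CTab.card_class_mul x, Nat.card_eq_fintype_card, Fintype.card_subtype]

theorem Box.of_mul [Finite G] {K : Key G α} {D : Dat} {val : ℕ → α} {i m c : ℕ} (hc : 0 < c)
    (h : m * Nat.card G ≤ c * Nat.card {g : G // Ty K D val i g}) (h' : c * D.cnt i ≤ m * Nat.card G) :
    Box K D val i :=
  Nat.le_of_mul_le_mul_left (h'.trans h) hc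

theorem BoxC.of_le {K : Key G α} {D : Dat} {val : ℕ → α} {i c : ℕ} {x : G} (hx : Ty K D val i x)
    (hc : Nat.card (Subgroup.centralizer ({x} : Set G)) ≤ c) (h : D.cnt i * c ≤ Nat.card G) : BoxC K D val i :=
  ⟨x, hx, (Nat.mul_le_mul_left _ hc).trans h⟩

theorem BoxC.box [Finite G] {K : Key G α} {D : Dat} {val : ℕ → α} {i : ℕ} (h : BoxC K D val i) :
    Box K D val i := by
  obtain ⟨x, hx, h⟩ := h
  have h1 : D.cnt i ≤ Nat.card {g : G // IsConj x g} := by
    rw [← card_class x] at h
    exact Nat.le_of_mul_le_mul_right h Nat.card_pos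
  refine h1.trans (Nat.card_le_card_of_injective (fun g => ⟨g.1, hx.isConj g.2⟩) ?_)
  intro a b hab
  exact Subtype.ext (congrArg Subtype.val hab :)

/-- two classes -/
theorem Box.of_two [Finite G] {K : Key G α} {D : Dat} {val : ℕ → α} {i c d : ℕ} {x y : G}
    (hx : Ty K D val i x) (hy : Ty K D val i y) (hxy : ¬ IsConj x y)
    (hc : Nat.card (Subgroup.centralizer ({x} : Set G)) ≤ c)
    (hd : Nat.card (Subgroup.centralizer ({y} : Set G)) ≤ d)
    (h : D.cnt i ≤ Nat.card G / c + Nat.card G / d) : Box K D val i := by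
  have key : ∀ (z : G) (e : ℕ), Nat.card (Subgroup.centralizer ({z} : Set G)) ≤ e →
      Nat.card G / e ≤ Nat.card {g : G // IsConj z g} := fun z e he => by
    apply Nat.div_le_of_le_mul
    rw [← card_class z, mul_comm]
    exact Nat.mul_le_mul_right _ he
  refine (h.trans (Nat.add_le_add (key x c hc) (key y d hd))).trans ?_
  rw [← Nat.card_sum]
  refine Nat.card_le_card_of_injective (Sum.elim (fun g => ⟨g.1, hx.isConj g.2⟩)
    (fun g => ⟨g.1, hy.isConj g.2⟩)) ?_
  rintro (a | a) (b | b) hab
  · exact congrArg Sum.inl (Subtype.ext (congrArg Subtype.val hab :))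
  · have h1 : a.1 = b.1 := congrArg Subtype.val hab
    exact absurd (a.2.trans (h1 ▸ b.2.symm)) hxy
  · have h1 : a.1 = b.1 := congrArg Subtype.val hab
    exact absurd (b.2.trans (h1 ▸ a.2.symm)) hxy
  · exact congrArg Sum.inr (Subtype.ext (congrArg Subtype.val hab :))

end

/-! ### Type functions -/

/-- a type function on the group -/
structure TD (G : Type u) [Group G] (D : Dat) where
  ty : G → ℕ
  lt : ∀ g, ty g < D.n
  conj : ∀ g h, ty (h * g * h⁻¹) = ty g
  ord : ∀ g, orderOf g = D.ord (ty g)
  pow : ∀ g k, ty (g ^ k) = D.pwf (ty g) k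

/-- the exact numbers of elements -/
def TD.Mass {G : Type u} [Group G] {D : Dat} (T : TD G D) : Prop :=
  Nat.card G = D.N ∧ ∀ i < D.n, Nat.card {g : G // T.ty g = i} = D.cnt i

/-- upper bounds of the numbers of elements -/
def TD.MassLe {G : Type u} [Group G] {D : Dat} (T : TD G D) : Prop :=
  Nat.card G = D.N ∧ ∀ i < D.n, Nat.card {g : G // T.ty g = i} ≤ D.cnt i

theorem TD.Mass.le {G : Type u} [Group G] {D : Dat} {T : TD G D} (h : T.Mass) : T.MassLe :=
  ⟨h.1, fun i hi => (h.2 i hi).le⟩

/-- the consistency of the power maps -/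
def Dat.okPow (D : Dat) : Bool :=
  (List.range D.n).all fun i =>
    let o := D.ord i
    let l := D.pw i
    (List.range (o + 1)).all fun d => (d == 0 || o % d != 0) ||
      (let j := look l d
       decide (j < D.n) && D.ord j * d == o &&
        (D.pw j).all fun q => (D.ord j % q.1 == 0) && decide ((d * q.1, q.2) ∈ l))

/-- different types have different signatures -/
def Dat.okSep (D : Dat) {α : Type v} [DecidableEq α] (val : ℕ → α) : Bool :=
  (List.range D.n).all fun i => (List.range i).all fun j => D.ord i != D.ord j ||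
    (D.pw i).any fun p => (D.pw j).any fun q => p.1 == q.1 && decide (val p.2 ≠ val q.2)

/-- the numbers add up -/
def Dat.okSum (D : Dat) : Bool := D.N ≤ ((List.range D.n).map D.cnt).sum

section

variable {G : Type u} [Group G] {α : Type v} {K : Key G α} {D : Dat} {val : ℕ → α}

theorem Ty.pow [Finite G] (hD : D.okPow = true) {i : ℕ} (hi : i < D.n) {g : G} (hg : Ty K D val i g) (k : ℕ) :
    D.pwf i k < D.n ∧ Ty K D val (D.pwf i k) (g ^ k) := by
  have ho : 0 < D.ord i := hg.1 ▸ orderOf_pos g
  have h1 := List.all_eq_true.1 (List.all_eq_true.1 hD i (List.mem_range.2 hi)) (Nat.gcd k (D.ord i))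
    (List.mem_range.2 (Nat.lt_succ_of_le (Nat.gcd_le_right _ ho)))
  have hd : Nat.gcd k (D.ord i) ∣ D.ord i := Nat.gcd_dvd_right _ _
  have hd0 : 0 < Nat.gcd k (D.ord i) := Nat.gcd_pos_of_pos_right _ ho
  simp only [Bool.or_eq_true, beq_iff_eq, hd0.ne', bne_iff_ne, ne_eq, Nat.mod_eq_zero_of_dvd hd,
    not_true_eq_false, or_self, false_or, Bool.and_eq_true, decide_eq_true_eq, List.all_eq_true] at h1
  obtain ⟨⟨h2, h3⟩, h4⟩ := h1
  change D.pwf i k < D.n at h2
  change D.ord (D.pwf i k) * _ = _ at h3
  change ∀ q ∈ D.pw (D.pwf i k), D.ord (D.pwf i k) % q.1 = 0 ∧ _ at h4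
  refine ⟨h2, ?_, fun q hq => ?_⟩
  · rw [orderOf_pow, hg.1, Nat.gcd_comm]
    exact Nat.div_eq_of_eq_mul_left hd0 h3.symm
  · obtain ⟨h5, h6⟩ := h4 q hq
    have h7 := hg.2 _ h6
    obtain ⟨k', hk'⟩ := Nat.gcd_dvd_left k (D.ord i)
    have h8 : (g ^ k) ^ q.1 = (g ^ (Nat.gcd k (D.ord i) * q.1)) ^ k' := by
      rw [← pow_mul, ← pow_mul]
      congr 1
      conv_lhs => rw [hk']
      ring
    rw [h8]
    refine K.gal _ _ _ ?_ h7
    have h9 : Nat.Coprime k' (D.ord (D.pwf i k)) := by
      have h10 := Nat.coprime_div_gcd_div_gcd hd0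
      have h11 : k / Nat.gcd k (D.ord i) = k' := Nat.div_eq_of_eq_mul_right hd0 hk'
      have h12 : D.ord i / Nat.gcd k (D.ord i) = D.ord (D.pwf i k) := Nat.div_eq_of_eq_mul_left hd0 h3.symm
      rwa [h11, h12] at h10
    refine Nat.Coprime.coprime_dvd_right ?_ h9
    rw [orderOf_dvd_iff_pow_eq_one, ← pow_mul, ← orderOf_dvd_iff_pow_eq_one, hg.1]
    conv_lhs => rw [← h3]
    exact ⟨q.1, by ring⟩

theorem Ty.unique [DecidableEq α] (hD : D.okSep val = true) {i j : ℕ} (hi : i < D.n) (hj : j < D.n) {g : G}
    (h : Ty K D val i g) (h' : Ty K D val j g) : i = j := by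
  have key : ∀ i j, i < D.n → j < i → Ty K D val i g → Ty K D val j g → False := by
    intro i j hi hj h h'
    have h1 := List.all_eq_true.1 (List.all_eq_true.1 hD i (List.mem_range.2 hi)) j (List.mem_range.2 hj)
    simp only [Bool.or_eq_true, bne_iff_ne, ne_eq, List.any_eq_true, Bool.and_eq_true, beq_iff_eq,
      decide_eq_true_eq] at h1
    rcases h1 with h1 | ⟨p, hp, q, hq, h2, h3⟩
    · exact h1 (h.1.symm.trans h'.1)
    · exact h3 (K.func _ _ _ (h.2 p hp) (h2 ▸ h'.2 q hq))
  rcases lt_trichotomy i j with h1 | h1 | h1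
  · exact (key j i hj h1 h' h).elim
  · exact h1
  · exact (key i j hi h1 h h').elim

/-- a type function from a cover -/
theorem exists_td_of_cover [Finite G] [DecidableEq α] (h1 : D.okPow = true) (h2 : D.okSep val = true)
    (hc : ∀ g : G, ∃ i < D.n, Ty K D val i g) :
    ∃ T : TD G D, ∀ g, ∀ i < D.n, T.ty g = i ↔ Ty K D val i g := by
  choose ty hlt hty using hc
  refine ⟨⟨ty, hlt, fun g h => Ty.unique h2 (hlt _) (hlt _) (hty _) ((hty g).conj h), fun g => (hty g).1,
    fun g k => ?_⟩, fun g i hi => ⟨?_, fun h => Ty.unique h2 (hlt _) hi (hty g) h⟩⟩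
  · obtain ⟨h3, h4⟩ := (hty g).pow h1 (hlt g) k
    exact Ty.unique h2 (hlt _) h3 (hty _) h4
  · rintro rfl
    exact hty g

theorem sum_range_eq (f : ℕ → ℕ) (n : ℕ) : ((List.range n).map f).sum = ∑ i ∈ Finset.range n, f i := by
  induction n with
  | zero => rfl
  | succ n ih => rw [List.range_succ, List.map_append, List.sum_append, ih, Finset.sum_range_succ]; simp

/-- the boxes give a cover and the exact numbers -/
theorem cover_of_box [Finite G] [DecidableEq α] (h2 : D.okSep val = true) (h3 : D.okSum = true)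
    (hN : Nat.card G = D.N) (hb : ∀ i < D.n, Box K D val i) :
    (∀ g : G, ∃ i < D.n, Ty K D val i g) ∧ ∀ i < D.n, Nat.card {g : G // Ty K D val i g} = D.cnt i := by
  classical
  have := Fintype.ofFinite G
  have h4 : ∀ i, Nat.card {g : G // Ty K D val i g} = (Finset.univ.filter fun g => Ty K D val i g).card :=
    fun i => by rw [Nat.card_eq_fintype_card, Fintype.card_subtype]
  have h5 : ((Finset.range D.n).biUnion fun i => Finset.univ.filter fun g : G => Ty K D val i g).card =
      ∑ i ∈ Finset.range D.n, (Finset.univ.filter fun g : G => Ty K D val i g).card := by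
    apply Finset.card_biUnion
    intro i hi j hj hij
    rw [Function.onFun, Finset.disjoint_left]
    intro g hg hg'
    exact hij (Ty.unique h2 (Finset.mem_range.1 hi) (Finset.mem_range.1 hj) (Finset.mem_filter.1 hg).2
      (Finset.mem_filter.1 hg').2)
  have h6 : ((Finset.range D.n).biUnion fun i => Finset.univ.filter fun g : G => Ty K D val i g).card ≤ D.N := by
    rw [← hN, Nat.card_eq_fintype_card]
    exact Finset.card_le_univ _
  have h7 : D.N ≤ ∑ i ∈ Finset.range D.n, D.cnt i := by
    rw [← sum_range_eq]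
    exact of_decide_eq_true h3
  have h8 : ∀ i ∈ Finset.range D.n, D.cnt i ≤ (Finset.univ.filter fun g : G => Ty K D val i g).card :=
    fun i hi => h4 i ▸ hb i (Finset.mem_range.1 hi)
  have h9 := Finset.sum_le_sum h8
  have h10 := (Finset.sum_eq_sum_iff_of_le h8).1 (by omega)
  have h11 : ((Finset.range D.n).biUnion fun i => Finset.univ.filter fun g : G => Ty K D val i g) =
      Finset.univ := by
    rw [← Finset.card_eq_iff_eq_univ, ← Nat.card_eq_fintype_card, hN]
    omega
  refine ⟨fun g => ?_, fun i hi => ?_⟩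
  · have h12 := Finset.mem_univ g
    rw [← h11] at h12
    obtain ⟨i, hi, hg⟩ := Finset.mem_biUnion.1 h12
    exact ⟨i, Finset.mem_range.1 hi, (Finset.mem_filter.1 hg).2⟩
  · rw [h4, h10 i (Finset.mem_range.2 hi)]

/-- **The boxes of all types give a type function with the exact numbers.** -/
theorem exists_td [Finite G] [DecidableEq α] (h1 : D.okPow = true) (h2 : D.okSep val = true)
    (h3 : D.okSum = true) (hN : Nat.card G = D.N) (hb : ∀ i < D.n, Box K D val i) :
    ∃ T : TD G D, T.Mass ∧ ∀ g, ∀ i < D.n, T.ty g = i ↔ Ty K D val i g := by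
  obtain ⟨h4, h5⟩ := cover_of_box h2 h3 hN hb
  obtain ⟨T, hT⟩ := exists_td_of_cover h1 h2 h4
  refine ⟨T, ⟨hN, fun i hi => ?_⟩, hT⟩
  rw [← h5 i hi]
  exact Nat.card_congr (Equiv.subtypeEquivRight fun g => hT g i hi)

/-- a type whose number is exact and with a strong box is one class -/
theorem TD.single [Finite G] {T : TD G D} (hm : T.MassLe) {x : G}
    (h : D.cnt (T.ty x) * Nat.card (Subgroup.centralizer ({x} : Set G)) ≤ Nat.card G) {g : G}
    (hg : T.ty g = T.ty x) : IsConj x g := by
  have h1 : D.cnt (T.ty x) ≤ Nat.card {g : G // IsConj x g} := by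
    rw [← card_class x] at h
    exact Nat.le_of_mul_le_mul_right h Nat.card_pos
  let f : {g : G // IsConj x g} → {g : G // T.ty g = T.ty x} := fun g => ⟨g.1, by
    obtain ⟨c, hc⟩ := isConj_iff.1 g.2
    rw [← hc, T.conj]⟩
  have hf : Function.Injective f := fun a b hab => Subtype.ext (congrArg Subtype.val hab :)
  have h2 := (Nat.bijective_iff_injective_and_card f).2
    ⟨hf, le_antisymm (Nat.card_le_card_of_injective f hf) ((hm.2 _ (T.lt x)).trans h1)⟩
  obtain ⟨a, ha⟩ := h2.2 ⟨g, hg⟩
  have h3 : a.1 = g := congrArg Subtype.val ha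
  exact h3 ▸ a.2

end

/-- the key of a rational valued character -/
def Key.ofChar {G : Type u} [Group G] [Finite G] {χ : G → ℂ} (hχ : IsCharacter G χ) (f : G → ℚ)
    (hf : ∀ g, χ g = f g) : Key G ℤ where
  P g a := f g = a
  func _ _ _ ha hb := by exact_mod_cast ha.symm.trans hb
  conj g h a ha := by
    have h1 := Characters.Core.isCharacter_isClassFunction hχ g h
    rw [hf, hf] at h1
    rw [← ha]
    exact_mod_cast h1
  gal g k a hk ha := by
    obtain ⟨σ, hσ⟩ := Characters.GaloisBasic.exists_ringEquiv_pow (orderOf_pos g).ne' hk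
    have h1 := Characters.GaloisBasic.map_apply (σ : ℂ →+* ℂ) hσ hχ (orderOf_pos g).ne' (pow_orderOf_eq_one g)
    rw [hf, hf, map_ratCast] at h1
    rw [← ha]
    exact_mod_cast h1.symm

end Cfsg.Agent.TAB.Eng
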