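import Cfsg.Agent.TAB.Eng.Cov

/-!
# Certificates for tables given by columns (helper16, TAB engine)

`chkQ` is the check `chkP` for the targets `t ↦ nth (tg t) i`, `i < k`; it is much faster for large tables.
`rw C i` is the row `i` of the table with the columns `C`, `rwL C i` the same as a list.
-/

set_option autoImplicit false

namespace Cfsg.Agent.TAB.Eng

open Cfsg

universe u

/-- the residues of the heads, and the tails -/
noncomputable def split (M : ℕ) (C : List (List ℤ)) : (List ℕ → List (List ℤ) → Bool) → Bool :=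
  List.rec (fun k => k [] []) (fun c _ ih k => List.rec (frc (modv M 0) fun a' => ih fun hs ts => k (a' :: hs) ([] :: ts))
    (fun a c' _ => frc (modv M a) fun a' => ih fun hs ts => k (a' :: hs) (c' :: ts)) c) C

theorem split_eq (M : ℕ) (C : List (List ℤ)) (k : List ℕ → List (List ℤ) → Bool) :
    split M C k = k (C.map fun c => modv M (nth c 0)) (C.map List.tail) := by
  induction C generalizing k with
  | nil => rfl
  | cons c C ih =>
    cases c with
    | nil => exact (frc_eq (modv M 0) fun a' => split M C fun hs ts => k (a' :: hs) ([] :: ts)).trans (ih _)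
    | cons a c => exact (frc_eq _ fun a' => split M C fun hs ts => k (a' :: hs) (c :: ts)).trans (ih _)

theorem nth_tail (c : List ℤ) (i : ℕ) : nth c.tail i = nth c (i + 1) := by cases c <;> rfl

/-- the test `f` holds for the first `k` rows of the columns `C` -/
noncomputable def allRows (M : ℕ) (f : List ℕ → Bool) (k : ℕ) : List (List ℤ) → Bool :=
  Nat.rec (fun _ => true) (fun _ ih C => split M C fun hs ts => cond (f hs) (ih ts) false) k

theorem allRows_spec {M : ℕ} {f : List ℕ → Bool} {k : ℕ} {C : List (List ℤ)} (h : allRows M f k C = true) :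
    ∀ i < k, f (C.map fun c => modv M (nth c i)) = true := by
  induction k generalizing C with
  | zero => intro i hi; cases hi
  | succ k ih =>
    have h1 : split M C (fun hs ts => cond (f hs) (allRows M f k ts) false) = true := h
    rw [split_eq] at h1
    cases hf : f (C.map fun c => modv M (nth c 0)) with
    | false => rw [hf] at h1; cases h1
    | true =>
      rw [hf] at h1
      intro i hi
      cases i with
      | zero => exact hf
      | succ i =>
        have h2 := ih h1 i (Nat.lt_of_succ_lt_succ hi)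
        simp only [List.map_map, Function.comp_def, nth_tail] at h2
        exact h2

/-- the check on the list `S` of types modulo `M`; `tg t` is the list of the values of the `k` targets at `t` -/
noncomputable def chkT (D : Dat) (l M : ℕ) (S : List ℕ) (seeds : List (List ℤ)) (c : Cert)
    (tg : ℕ → List ℤ) (k : ℕ) : Bool :=
  frcL (S.map fun t => D.pwf t l) fun PL => allL (fun j => memL j S) PL &&
    runOps D l M S PL seeds c.ops [] fun acc => allRows M (red M c.B acc) k (S.map tg)

/-- the lengths of the lists -/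
def Dat.okLen (D : Dat) : Prop := D.ordL.length = D.n ∧ D.cntL.length = D.n ∧ D.pwL.length = D.n

/-- the types of the `K`-th powers -/
noncomputable def lpL (K : ℕ) (os : List ℕ) : List (List (ℕ × ℕ)) → List ℕ :=
  List.rec (fun _ => []) (fun o _ ih ps => List.rec [] (fun p ps' _ => look p (Nat.gcd K o) :: ih ps') ps) os

theorem lpL_aux (K : ℕ) (os : List ℕ) (ps : List (List (ℕ × ℕ))) (h : ps.length = os.length) (i : ℕ) :
    lpL K os ps = (List.range' i os.length).map fun t => look (ps.getD (t - i) []) (Nat.gcd K (os.getD (t - i) 0)) := by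
  induction os generalizing ps i with
  | nil => rfl
  | cons o os ih =>
    cases ps with
    | nil => cases h
    | cons p ps =>
      rw [List.length_cons, List.range'_succ, List.map_cons, Nat.sub_self]
      refine congrArg (List.cons _) ((ih ps (Nat.succ.inj h) (i + 1)).trans (List.map_congr_left fun t ht => ?_))
      have h1 : t - i = t - (i + 1) + 1 := by
        have := (List.mem_range'_1.1 ht).1
        omega
      rw [h1]
      rfl

theorem lpL_eq {D : Dat} (h : D.okLen) (K : ℕ) : lpL K D.ordL D.pwL = (List.range' 0 D.n).map fun t => D.pwf t K := by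
  rw [lpL_aux K _ _ (h.2.2.trans h.1.symm) 0, h.1]
  rfl

/-- the check of several certificates modulo `M` -/
noncomputable def chkQ (D : Dat) (l A M : ℕ) (seeds : List (List ℤ)) (cs : List Cert)
    (tg : ℕ → List ℤ) (k : ℕ) : Bool :=
  okP D l A && Nat.ble 1 M && frc M fun M => frc (l ^ A) fun K =>
    frcL (lpL K D.ordL D.pwL) fun LP =>
      allL (fun c => frcL (pos c.s LP 0) fun S => chkT D l M S seeds c tg k) cs

/-! ### Tables given by columns -/

/-- the row `i` of the table with the columns `C` -/
noncomputable def rw (C : List (List ℤ)) (i t : ℕ) : ℤ := nth (ntd C [] t) i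

/-- the combination `∑ c.1 * col c.2` of the entries of a column -/
noncomputable def dot (col : List ℤ) (c : List (ℤ × ℕ)) : ℤ :=
  List.rec 0 (fun p _ ih => Int.add (Int.mul p.1 (nth col p.2)) ih) c

theorem dot_cons (col : List ℤ) (p : ℤ × ℕ) (c : List (ℤ × ℕ)) :
    dot col (p :: c) = p.1 * nth col p.2 + dot col c := rfl

/-- a combination of rows -/
noncomputable def cmb (C : List (List ℤ)) (c : List (ℤ × ℕ)) (t : ℕ) : ℤ := dot (ntd C [] t) c

theorem cmb_cons (C : List (List ℤ)) (p : ℤ × ℕ) (c : List (ℤ × ℕ)) :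
    cmb C (p :: c) = fun t => p.1 * rw C p.2 t + cmb C c t := rfl

/-- the values of several combinations of rows -/
noncomputable def cmbs (C : List (List ℤ)) (cs : List (List (ℤ × ℕ))) (t : ℕ) : List ℤ := cs.map (dot (ntd C [] t))

theorem nth_cmbs (C : List (List ℤ)) (cs : List (List (ℤ × ℕ))) {c : List (ℤ × ℕ)} (hc : c ∈ cs) :
    ∃ i < cs.length, (fun t => nth (cmbs C cs t) i) = cmb C c := by
  obtain ⟨i, hi, rfl⟩ := List.getElem_of_mem hc
  refine ⟨i, hi, funext fun t => ?_⟩
  rw [nth_eq, cmbs, List.getD_eq_getElem _ _ (by rwa [List.length_map]), List.getElem_map]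
  rfl

/-- the row `i` as a list -/
noncomputable def rwL (C : List (List ℤ)) (i : ℕ) : List ℤ := C.map fun c => nth c i

theorem nth_rwL (C : List (List ℤ)) (i : ℕ) : nth (rwL C i) = rw C i := by
  funext t
  induction C generalizing t with
  | nil => rfl
  | cons c C ih => cases t with
    | zero => rfl
    | succ t => exact ih t

variable {G : Type u} [Group G] {D : Dat} {T : TD G D}

theorem val_chkT [Finite G] {F : Subgroup G} {S : List ℕ} {M l : ℕ} (hl : l.Prime) (hM : 0 < M)
    {seeds : List (List ℤ)} (hsd : ∀ sd ∈ seeds, VirtOn T F (nth sd)) {c : Cert} {tg : ℕ → List ℤ} {k : ℕ}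
    (h : chkT D l M S seeds c tg k = true) : ∀ i < k, Val T F S M (S.map fun t => modv M (nth (tg t) i)) := by
  rw [chkT, frcL_eq, Bool.and_eq_true] at h
  have hS : ∀ t ∈ S, D.pwf t l ∈ S := fun t ht => memL_spec (allL_spec h.1 _ (List.mem_map_of_mem ht))
  obtain ⟨acc, ha, hk⟩ := val_runOps hl hM hS hsd c.ops (fun v hv => by cases hv) h.2
  intro i hi
  have h1 := allRows_spec hk i hi
  rw [List.map_map] at h1
  exact val_red hM c.B ha (List.length_map _) h1

theorem okP_of_chkQ {l A M : ℕ} {seeds : List (List ℤ)} {cs : List Cert} {tg : ℕ → List ℤ} {k : ℕ}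
    (h : chkQ D l A M seeds cs tg k = true) : okP D l A = true := by
  rw [chkQ, Bool.and_eq_true, Bool.and_eq_true] at h
  exact h.1.1

/-- **a certificate gives the local condition** for the pairs which fit -/
theorem goodAt_of_chkQ [Finite G] (hN : Nat.card G = D.N) (hL : D.okLen) {l A M : ℕ} {seeds : List (List ℤ)}
    {cs : List Cert} {tg : ℕ → List ℤ} {k : ℕ} (h : chkQ D l A M seeds cs tg k = true) {R : Subgroup G}
    {b : G} (hs : T.ty b ∈ cs.map Cert.s) (hR : IsPGroup l R) (hb' : ¬ l ∣ orderOf b) (hcm : ∀ a ∈ R, Commute a b)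
    (hF : Fit T M seeds R b) : ∀ i < k, GoodAt T R b fun t => nth (tg t) i := by
  obtain ⟨c, hc, hb⟩ := List.mem_map.1 hs
  rw [chkQ, Bool.and_eq_true, Bool.and_eq_true, frc_eq, frc_eq, frcL_eq, lpL_eq hL] at h
  obtain ⟨⟨h1, h2⟩, h3⟩ := h
  have hM : 0 < M := Nat.le_of_ble_eq_true h2
  have hl : l.Prime := isPr_spec (Bool.and_eq_true _ _ ▸ h1).1
  have h4 := allL_spec h3 c hc
  rw [frcL_eq] at h4
  obtain ⟨hd, F, hRF, hbF, hsd⟩ := hF
  intro i hi
  refine goodAt_of_val hM hRF hbF hcm hd (fun a ha => ?_) (val_chkT hl hM hsd h4 i hi)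
  exact mem_pos _ _ _ _ _ (Nat.zero_le _) (by rw [zero_add]; exact T.lt _)
    ((pwf_sec h1 hN hR hb' hcm ha).trans hb.symm)

/-- certificates with global seeds -/
theorem good_of_chkQ [Finite G] (hN : Nat.card G = D.N) (hL : D.okLen) {l A : ℕ} {seeds : List (List ℤ)}
    {cs : List Cert} {tg : ℕ → List ℤ} {k : ℕ} (h : chkQ D l A (l ^ A) seeds cs tg k = true)
    (hsd : ∀ sd ∈ seeds, Virt T (nth sd)) : ∀ s ∈ cs.map Cert.s, ∀ i < k, Good T l s fun t => nth (tg t) i :=
  fun _ hs i hi _ _ hR hb hb' hcm => goodAt_of_chkQ hN hL h (hb ▸ hs) hR hb' hcm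
    (fit_top hsd (card_dvd_of_okP (okP_of_chkQ h) hN hR)) i hi

theorem Good.cmb {l s : ℕ} {C : List (List ℤ)} {c : List (ℤ × ℕ)} (h : ∀ p ∈ c, Good T l s (rw C p.2)) :
    Good T l s (cmb C c) := by
  intro R b h1 h2 h3 h4
  induction c with
  | nil => exact GoodAt.zero
  | cons p c ih =>
    rw [cmb_cons]
    exact ((h p List.mem_cons_self R b h1 h2 h3 h4).smul _).add (ih fun q hq => h q (List.mem_cons_of_mem _ hq))

theorem Virt.cmb {C : List (List ℤ)} {c : List (ℤ × ℕ)} (h : ∀ p ∈ c, Virt T (rw C p.2)) : Virt T (cmb C c) := by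
  induction c with
  | nil => exact Virt.const 0
  | cons p c ih =>
    rw [cmb_cons]
    exact ((h p List.mem_cons_self).smul _).add (ih fun q hq => h q (List.mem_cons_of_mem _ hq))

/-- all the local conditions but one are known for the rows; the last one is checked for combinations of rows -/
theorem virt_cmbs [Finite G] (hN : Nat.card G = D.N) (hL : D.okLen) {PL : List (ℕ × ℕ × List ℕ)}
    (hP : okPrimes D PL = true) {C : List (List ℤ)} {k l A : ℕ} {c : Cert}
    (h : ∀ x ∈ PL, ∀ s ∈ x.2.2, (x.1 = l ∧ s = c.s) ∨ ∀ i < k, Good T x.1 s (rw C i)) {seeds : List (List ℤ)}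
    (hsd : ∀ sd ∈ seeds, Virt T (nth sd)) {cs : List (List (ℤ × ℕ))}
    (hc : chkQ D l A (l ^ A) seeds [c] (cmbs C cs) cs.length = true) (hk : ∀ y ∈ cs, ∀ p ∈ y, p.2 < k) :
    ∀ y ∈ cs, Virt T (cmb C y) := by
  intro y hy
  refine virt_of_good hN hP fun x hx s hs => ?_
  rcases h x hx s hs with ⟨h1, h2⟩ | h1
  · obtain ⟨i, hi, h3⟩ := nth_cmbs C cs hy
    rw [h1, h2, ← h3]
    exact good_of_chkQ hN hL hc hsd _ List.mem_cons_self i hi
  · exact Good.cmb fun p hp => h1 _ (hk y hy p hp)

end Cfsg.Agent.TAB.Eng
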